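import Mathlib
import Groth.Prelude.Def_W4c3severiratdpLat

/-!
# Conic and exceptional classes in the del Pezzo lattices, and their Weyl orbits

Every orbit of a reflection subgroup on a set of classes with given square and canonical degree contains
a vector which is dominant for the chosen roots (descent on a height function); the classes form a
finite explicit list, so dominant vectors can be found by computation.
-/

set_option autoImplicit false
set_option linter.style.haveILetI false

namespace Groth.Agent.SevDP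

open W4c3severiratdp

variable {δ : ℕ}

theorem form_comm (v w : DP δ) : form v w = form w v := by
  simp only [form, mul_comm]

theorem form_add_left (u v w : DP δ) : form (u + v) w = form u w + form v w := by
  simp only [form, Pi.add_apply, add_mul, Finset.sum_add_distrib]
  ring

theorem form_smul_left (c : ℤ) (v w : DP δ) : form (c • v) w = c * form v w := by
  simp only [form, Pi.smul_apply, smul_eq_mul, mul_assoc, mul_sub, Finset.mul_sum]

theorem form_add_right (u v w : DP δ) : form w (u + v) = form w u + form w v := by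
  simp only [form_comm w, form_add_left]

theorem form_smul_right (c : ℤ) (v w : DP δ) : form w (c • v) = c * form w v := by
  simp only [form_comm w, form_smul_left]

theorem form_sub_left (u v w : DP δ) : form (u - v) w = form u w - form v w := by
  have h := form_add_left (u - v) v w
  rw [sub_add_cancel] at h
  omega

/-- A root: square `-2`, orthogonal to the canonical class. -/
def IsRoot (α : DP δ) : Prop := form α α = -2 ∧ form (canon δ) α = 0

instance (α : DP δ) : Decidable (IsRoot α) := inferInstanceAs (Decidable (_ ∧ _))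
instance (v : DP δ) : Decidable (IsConic v) := inferInstanceAs (Decidable (_ ∧ _))
instance (v : DP δ) : Decidable (IsExc v) := inferInstanceAs (Decidable (_ ∧ _))

/-- The reflection in a root, as a linear map. -/
def reflLin (α : DP δ) : DP δ →ₗ[ℤ] DP δ where
  toFun v := v + form v α • α
  map_add' v w := by rw [form_add_left, add_smul]; abel
  map_smul' c v := by rw [form_smul_left, RingHom.id_apply, smul_add, mul_smul]

/-- The reflection in a root. -/
def refl (α : DP δ) (hα : IsRoot α) : DP δ ≃ₗ[ℤ] DP δ :=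
  LinearEquiv.ofInvolutive (reflLin α) fun v => by
    show (v + form v α • α) + form (v + form v α • α) α • α = v
    rw [form_add_left, form_smul_left, hα.1]
    module

theorem refl_apply (α : DP δ) (hα : IsRoot α) (v : DP δ) : refl α hα v = v + form v α • α := rfl

theorem isWeyl_refl (α : DP δ) (hα : IsRoot α) : IsWeyl (refl α hα) := by
  refine ⟨fun v w => ?_, ?_⟩
  · simp only [refl_apply, form_add_left, form_add_right, form_smul_left, form_smul_right, hα.1,
      form_comm α w]
    ring
  · rw [refl_apply, hα.2, zero_smul, add_zero]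

theorem isWeyl_id : IsWeyl (LinearEquiv.refl ℤ (DP δ)) := ⟨fun _ _ => rfl, rfl⟩

theorem isWeyl_trans {g h : DP δ ≃ₗ[ℤ] DP δ} (hg : IsWeyl g) (hh : IsWeyl h) : IsWeyl (g.trans h) :=
  ⟨fun v w => by simp [hh.1, hg.1], by simp [hg.2, hh.2]⟩

theorem isWeyl_symm {g : DP δ ≃ₗ[ℤ] DP δ} (hg : IsWeyl g) : IsWeyl g.symm :=
  ⟨fun v w => by rw [← hg.1, g.apply_symm_apply, g.apply_symm_apply],
    (LinearEquiv.symm_apply_eq g).mpr hg.2.symm⟩

theorem form_canon_map {g : DP δ ≃ₗ[ℤ] DP δ} (hg : IsWeyl g) (v : DP δ) :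
    form (canon δ) (g v) = form (canon δ) v := by
  conv_lhs => rw [← hg.2]
  exact hg.1 _ _

/-- A class with given square and canonical degree. -/
def IsCls (c d : ℤ) (v : DP δ) : Prop := form v v = c ∧ form (canon δ) v = d

instance (c d : ℤ) (v : DP δ) : Decidable (IsCls c d v) := inferInstanceAs (Decidable (_ ∧ _))

theorem IsCls.map {c d : ℤ} {v : DP δ} (hv : IsCls c d v) {g : DP δ ≃ₗ[ℤ] DP δ} (hg : IsWeyl g) :
    IsCls c d (g v) := ⟨(hg.1 v v).trans hv.1, (form_canon_map hg v).trans hv.2⟩

/-- A linear height, positive on the simple roots. -/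
def hgt (v : DP δ) : ℤ := 100 * v 0 + ∑ i : Fin δ, ((i : ℤ) + 1) * v i.succ

theorem hgt_add (v w : DP δ) : hgt (v + w) = hgt v + hgt w := by
  simp only [hgt, Pi.add_apply, mul_add, Finset.sum_add_distrib]
  ring

theorem hgt_smul (c : ℤ) (v : DP δ) : hgt (c • v) = c * hgt v := by
  simp only [hgt, Pi.smul_apply, smul_eq_mul, mul_add, Finset.mul_sum]
  refine congrArg₂ (· + ·) (by ring) (Finset.sum_congr rfl fun i _ => by ring)

/-- Being dominant for a list of roots. -/
def Dom (R : List (DP δ)) (v : DP δ) : Prop := ∀ α ∈ R, 0 ≤ form v α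

instance (R : List (DP δ)) (v : DP δ) : Decidable (Dom R v) := inferInstanceAs (Decidable (∀ _ ∈ R, _))

/-- The roots of `R` orthogonal to `u`. -/
def orth (R : List (DP δ)) (u : DP δ) : List (DP δ) := R.filter (fun α => decide (form u α = 0))

/-- Descent: every orbit contains a dominant vector. -/
theorem exists_dominant (R : List (DP δ)) (hR : ∀ α ∈ R, IsRoot α ∧ 0 < hgt α) (c d B : ℤ)
    (hB : ∀ v : DP δ, IsCls c d v → B ≤ hgt v) (v : DP δ) (hv : IsCls c d v) :
    ∃ g : DP δ ≃ₗ[ℤ] DP δ, IsWeyl g ∧ (∀ w, (∀ α ∈ R, form w α = 0) → g w = w) ∧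
      IsCls c d (g v) ∧ Dom R (g v) := by
  suffices ∀ (n : ℕ) (v : DP δ), IsCls c d v → hgt v ≤ B + n →
      ∃ g : DP δ ≃ₗ[ℤ] DP δ, IsWeyl g ∧ (∀ w, (∀ α ∈ R, form w α = 0) → g w = w) ∧
        IsCls c d (g v) ∧ Dom R (g v) from this (hgt v - B).toNat v hv (by omega)
  intro n
  induction n using Nat.strong_induction_on with
  | _ n ih =>
    intro v hv hn
    by_cases hdom : Dom R v
    · exact ⟨LinearEquiv.refl ℤ _, isWeyl_id, fun _ _ => rfl, hv, hdom⟩
    simp only [Dom, not_forall, not_le] at hdom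
    obtain ⟨α, hα, hneg⟩ := hdom
    obtain ⟨hroot, hpos⟩ := hR α hα
    let v' := refl α hroot v
    have hv' : IsCls c d v' := hv.map (isWeyl_refl α hroot)
    have hlt : hgt v' < hgt v := by
      show hgt (v + form v α • α) < hgt v
      rw [hgt_add, hgt_smul]
      nlinarith
    have hlow := hB v' hv'
    obtain ⟨g, hg, hfix, hcls, hgd⟩ := ih (hgt v' - B).toNat (by omega) v' hv' (by omega)
    refine ⟨(refl α hroot).trans g, isWeyl_trans (isWeyl_refl α hroot) hg, fun w hw => ?_, hcls, hgd⟩
    rw [LinearEquiv.trans_apply, refl_apply, hw α hα, zero_smul, add_zero, hfix w hw]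

/-- The class given by a list of coordinates. -/
def ofL (δ : ℕ) (l : List ℤ) : DP δ := fun i => l.getD i.val 0

/-- The simple roots `e_0 - e_1 - e_2 - e_3` and `e_i - e_{i+1}`. -/
def simpleRoots (δ : ℕ) : List (DP δ) :=
  (if 3 ≤ δ then [ofL δ [1, 1, 1, 1]] else []) ++
    (List.range (δ - 1)).map (fun i => ofL δ (List.replicate (i + 1) 0 ++ [-1, 1]))

/-- The possible coordinates. -/
def bs : List ℤ := (List.range 25).map (fun n : ℕ => (n : ℤ) - 12)

/-- Lists of `n` small integers with given sum and sum of squares. -/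
def sols : ℕ → ℤ → ℤ → List (List ℤ)
  | 0, s, q => if s = 0 ∧ q = 0 then [[]] else []
  | n + 1, s, q => if s * s ≤ ((n : ℤ) + 1) * q then
      (bs.filter (fun b => b * b ≤ q)).flatMap (fun b => (sols n (s - b) (q - b * b)).map (b :: ·))
    else []

theorem mem_bs {b : ℤ} : b ∈ bs ↔ -12 ≤ b ∧ b ≤ 12 := by
  simp only [bs, List.mem_map, List.mem_range]
  constructor
  · rintro ⟨n, hn, rfl⟩
    omega
  · rintro ⟨h1, h2⟩
    exact ⟨(b + 12).toNat, by omega, by omega⟩

theorem sq_sum_le (l : List ℤ) : l.sum * l.sum ≤ (l.length : ℤ) * (l.map fun b => b * b).sum := by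
  induction l with
  | nil => simp
  | cons a l ih =>
    simp only [List.sum_cons, List.length_cons, List.map_cons, Nat.cast_add, Nat.cast_one]
    have hsq : 0 ≤ (l.map fun b => b * b).sum := List.sum_nonneg (by
      intro x hx
      obtain ⟨b, -, rfl⟩ := List.mem_map.mp hx
      exact mul_self_nonneg b)
    by_cases hl : l = []
    · subst hl; simp
    have hn : (0 : ℤ) < l.length := by
      have := List.length_pos_iff.mpr hl
      omega
    nlinarith [mul_self_nonneg ((l.length : ℤ) * a - l.sum)]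

theorem mem_sols {n : ℕ} {s q : ℤ} {l : List ℤ} :
    l ∈ sols n s q ↔
      l.length = n ∧ l.sum = s ∧ (l.map fun b => b * b).sum = q ∧ ∀ b ∈ l, -12 ≤ b ∧ b ≤ 12 := by
  induction n generalizing s q l with
  | zero =>
    rw [sols]
    split_ifs with h
    · simp only [List.mem_singleton, List.length_eq_zero_iff]
      constructor
      · rintro rfl; simp [h.1, h.2]
      · rintro ⟨h1, -⟩; exact h1
    · simp only [List.not_mem_nil, false_iff]
      rintro ⟨h1, h2, h3, -⟩
      rw [List.length_eq_zero_iff] at h1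
      subst h1
      exact h ⟨by simpa using h2.symm, by simpa using h3.symm⟩
  | succ n ih =>
    rw [sols]
    split_ifs with h
    · simp only [List.mem_flatMap, List.mem_filter, List.mem_map, mem_bs, decide_eq_true_eq]
      constructor
      · rintro ⟨b, ⟨hb, -⟩, t, ht, rfl⟩
        obtain ⟨h1, h2, h3, h4⟩ := ih.mp ht
        refine ⟨by simp [h1], by simp [h2], by simp [h3], fun x hx => ?_⟩
        rcases List.mem_cons.mp hx with rfl | hx
        exacts [hb, h4 x hx]
      · rintro ⟨h1, h2, h3, h4⟩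
        obtain ⟨b, t, rfl⟩ := List.exists_of_length_succ l h1
        simp only [List.length_cons, List.sum_cons, List.map_cons] at h1 h2 h3
        have hsq : 0 ≤ (t.map fun b => b * b).sum := List.sum_nonneg (by
          intro x hx
          obtain ⟨y, -, rfl⟩ := List.mem_map.mp hx
          exact mul_self_nonneg y)
        exact ⟨b, ⟨h4 b (by simp), by omega⟩, t, ih.mpr ⟨by omega, by omega, by omega,
          fun x hx => h4 x (by simp [hx])⟩, rfl⟩
    · simp only [List.not_mem_nil, false_iff]
      rintro ⟨h1, h2, h3, -⟩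
      have := sq_sum_le l
      rw [h1, h2, h3] at this
      push_cast at this
      exact h this

theorem nodup_sols (n : ℕ) (s q : ℤ) : (sols n s q).Nodup := by
  induction n generalizing s q with
  | zero => rw [sols]; split_ifs <;> simp
  | succ n ih =>
    rw [sols]
    split_ifs with h
    · refine List.nodup_flatMap.mpr ⟨fun b _ => (ih _ _).map fun _ _ e => (List.cons_inj_right _).mp e, ?_⟩
      have hbs : (bs.filter (fun b => b * b ≤ q)).Nodup :=
        (List.nodup_range.map fun _ _ e => by simpa using e).filter _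
      refine hbs.imp fun {b b'} hne l h1 h2 => ?_
      obtain ⟨_, -, rfl⟩ := List.mem_map.mp h1
      obtain ⟨_, -, e⟩ := List.mem_map.mp h2
      exact hne (List.cons.inj e).1.symm
    · simp

/-- The possible values of the coordinate `a`. -/
def as : List ℤ := (List.range 13).map (fun n : ℕ => (n : ℤ) - 1)

/-- All classes with square `c` and canonical degree `d`, as coordinate lists. -/
def cls (δ : ℕ) (c d : ℤ) : List (List ℤ) :=
  as.flatMap (fun a => (sols δ (3 * a + d) (a * a - c)).map (a :: ·))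

theorem form_self_eq (v : DP δ) : form v v = v 0 * v 0 - ∑ i : Fin δ, v i.succ * v i.succ := rfl

theorem form_canon (v : DP δ) : form (canon δ) v = -3 * v 0 + ∑ i : Fin δ, v i.succ := by
  simp [form, canon]

/-- The bounds used: conic or exceptional classes for at most eight points. -/
def Small (c d : ℤ) : Prop := (c = 0 ∧ d = -2) ∨ (c = -1 ∧ d = -1)

theorem bounds {c d : ℤ} (hcd : Small c d) (h8 : δ ≤ 8) {v : DP δ} (hv : IsCls c d v) :
    (-1 ≤ v 0 ∧ v 0 ≤ 11) ∧ ∀ i : Fin δ, -12 ≤ v i.succ ∧ v i.succ ≤ 12 := by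
  obtain ⟨h1, h2⟩ := hv
  rw [form_self_eq] at h1
  rw [form_canon] at h2
  have hcs := sq_sum_le_card_mul_sum_sq (s := (Finset.univ : Finset (Fin δ))) (f := fun i => v i.succ)
  simp only [Finset.card_univ, Fintype.card_fin, pow_two] at hcs
  set a := v 0
  set S := ∑ i : Fin δ, v i.succ
  set Q := ∑ i : Fin δ, v i.succ * v i.succ with hQdef
  have hQ : 0 ≤ Q := Finset.sum_nonneg fun i _ => mul_self_nonneg _
  have h8' : (δ : ℤ) * Q ≤ 8 * Q := mul_le_mul_of_nonneg_right (by exact_mod_cast h8) hQ
  have hS : S = 3 * a + d := by linarith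
  have hQa : Q = a * a - c := by linarith
  have ha : -1 ≤ a ∧ a ≤ 11 := by
    rw [hS, hQa] at hcs
    rw [hQa] at h8'
    rcases hcd with ⟨rfl, rfl⟩ | ⟨rfl, rfl⟩ <;> constructor <;> nlinarith
  refine ⟨ha, fun i => ?_⟩
  have hi : v i.succ * v i.succ ≤ Q :=
    Finset.single_le_sum (f := fun j : Fin δ => v j.succ * v j.succ) (fun j _ => mul_self_nonneg _)
      (Finset.mem_univ i)
  rw [hQa] at hi
  rcases hcd with ⟨rfl, rfl⟩ | ⟨rfl, rfl⟩ <;> constructor <;> nlinarith

theorem le_hgt {c d : ℤ} (hcd : Small c d) (h8 : δ ≤ 8) (v : DP δ) (hv : IsCls c d v) :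
    -1000 ≤ hgt v := by
  obtain ⟨⟨ha, -⟩, hb⟩ := bounds hcd h8 hv
  have hs : ∑ _i : Fin δ, (-108 : ℤ) ≤ ∑ i : Fin δ, ((i : ℤ) + 1) * v i.succ :=
    Finset.sum_le_sum fun i _ => by
      have := i.isLt
      have h9 : (i : ℤ) + 1 ≤ 8 := by omega
      nlinarith [(hb i).1]
  simp only [Finset.sum_const, Finset.card_univ, Fintype.card_fin, nsmul_eq_mul] at hs
  have : (δ : ℤ) ≤ 8 := by exact_mod_cast h8
  simp only [hgt]
  nlinarith

theorem ofL_ofFn (v : DP δ) : ofL δ (List.ofFn v) = v := by
  ext i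
  have hi : i.val < (List.ofFn v).length := by rw [List.length_ofFn]; exact i.isLt
  rw [ofL, List.getD_eq_getElem _ _ hi]
  exact List.getElem_ofFn hi

theorem ofFn_mem_cls {c d : ℤ} (hcd : Small c d) (h8 : δ ≤ 8) {v : DP δ} (hv : IsCls c d v) :
    List.ofFn v ∈ cls δ c d := by
  obtain ⟨⟨ha1, ha2⟩, hb⟩ := bounds hcd h8 hv
  obtain ⟨h1, h2⟩ := hv
  rw [form_self_eq] at h1
  rw [form_canon] at h2
  simp only [cls, List.mem_flatMap, List.mem_map]
  refine ⟨v 0, ?_, List.ofFn (fun i : Fin δ => v i.succ), mem_sols.mpr ⟨?_, ?_, ?_, ?_⟩, ?_⟩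
  · simp only [as, List.mem_map, List.mem_range]
    exact ⟨(v 0 + 1).toNat, by omega, by omega⟩
  · simp
  · rw [List.sum_ofFn]; linarith
  · rw [List.map_ofFn, List.sum_ofFn]
    simp only [Function.comp_apply]
    linarith
  · intro b hb'
    obtain ⟨i, rfl⟩ := List.mem_ofFn.mp hb'
    exact hb i
  · rw [List.ofFn_succ]

theorem isCls_of_mem_cls {c d : ℤ} {l : List ℤ} (hl : l ∈ cls δ c d) :
    IsCls c d (ofL δ l) ∧ l.length = δ + 1 := by
  simp only [cls, List.mem_flatMap, List.mem_map] at hl
  obtain ⟨a, -, t, ht, rfl⟩ := hl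
  obtain ⟨h1, h2, h3, -⟩ := mem_sols.mp ht
  subst h1
  refine ⟨⟨?_, ?_⟩, by simp⟩
  · have hs : (t.map fun b => b * b).sum = ∑ i : Fin t.length, t[i.val] * t[i.val] := by
      conv_lhs => rw [← (List.ofFn_getElem : List.ofFn (fun i : Fin t.length => t[i.val]) = t), List.map_ofFn, List.sum_ofFn]
      rfl
    rw [form_self_eq]
    simp only [ofL, Fin.val_zero, Fin.val_succ, List.getD_cons_zero, List.getD_cons_succ]
    rw [Finset.sum_congr rfl fun (i : Fin t.length) _ => show t.getD i.val 0 * t.getD i.val 0 =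
      t[i.val] * t[i.val] by rw [List.getD_eq_getElem _ _ i.isLt], ← hs, h3]
    ring
  · have hs : t.sum = ∑ i : Fin t.length, t[i.val] := by
      conv_lhs => rw [← (List.ofFn_getElem : List.ofFn (fun i : Fin t.length => t[i.val]) = t), List.sum_ofFn]
    rw [form_canon]
    simp only [ofL, Fin.val_zero, Fin.val_succ, List.getD_cons_zero, List.getD_cons_succ]
    rw [Finset.sum_congr rfl fun (i : Fin t.length) _ => List.getD_eq_getElem t 0 i.isLt, ← hs, h2]
    ring

theorem nodup_cls (c d : ℤ) : (cls δ c d).Nodup := by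
  refine List.nodup_flatMap.mpr ⟨fun a _ => (nodup_sols _ _ _).map fun _ _ e => (List.cons_inj_right _).mp e, ?_⟩
  refine (List.nodup_range.map fun _ _ e => by simpa using e : as.Nodup).imp fun {b b'} hne l h1 h2 => ?_
  obtain ⟨_, -, rfl⟩ := List.mem_map.mp h1
  obtain ⟨_, -, e⟩ := List.mem_map.mp h2
  exact hne (List.cons.inj e).1.symm

theorem ncard_cls {c d : ℤ} (hcd : Small c d) (h8 : δ ≤ 8) :
    {v : DP δ | IsCls c d v}.ncard = (cls δ c d).length := by
  have hset : {v : DP δ | IsCls c d v} = ↑((cls δ c d).map (ofL δ)).toFinset := by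
    ext v
    simp only [List.coe_toFinset, List.mem_map, Set.mem_setOf_eq]
    constructor
    · exact fun hv => ⟨_, ofFn_mem_cls hcd h8 hv, ofL_ofFn v⟩
    · rintro ⟨l, hl, rfl⟩
      exact (isCls_of_mem_cls hl).1
  rw [hset, Set.ncard_coe_finset, List.toFinset_card_of_nodup, List.length_map]
  refine (nodup_cls c d).map_on fun l hl l' hl' e => ?_
  have h1 := (isCls_of_mem_cls hl).2
  have h2 := (isCls_of_mem_cls hl').2
  refine List.ext_getElem (h1.trans h2.symm) fun i hi hi' => ?_
  have := congrFun e ⟨i, h1 ▸ hi⟩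
  simp only [ofL] at this
  rwa [List.getD_eq_getElem _ _ hi, List.getD_eq_getElem _ _ hi'] at this

/-- The dominant classes, found by computation. -/
def domList (δ : ℕ) (R : List (DP δ)) (c d : ℤ) : List (DP δ) :=
  ((cls δ c d).map (ofL δ)).filter (fun v => decide (Dom R v))

theorem mem_domList {R : List (DP δ)} {c d : ℤ} (hcd : Small c d) (h8 : δ ≤ 8) {v : DP δ}
    (hv : IsCls c d v) (hd : Dom R v) : v ∈ domList δ R c d := by
  simp only [domList, List.mem_filter, List.mem_map, decide_eq_true_eq]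
  exact ⟨⟨_, ofFn_mem_cls hcd h8 hv, ofL_ofFn v⟩, hd⟩

/-- Every class is moved into the computed list by the group generated by the roots. -/
theorem exists_mem_domList {R : List (DP δ)} (hR : ∀ α ∈ R, IsRoot α ∧ 0 < hgt α) {c d : ℤ}
    (hcd : Small c d) (h8 : δ ≤ 8) {v : DP δ} (hv : IsCls c d v) :
    ∃ g : DP δ ≃ₗ[ℤ] DP δ, IsWeyl g ∧ (∀ w, (∀ α ∈ R, form w α = 0) → g w = w) ∧
      g v ∈ domList δ R c d := by
  obtain ⟨g, h1, h2, h3, h4⟩ := exists_dominant R hR c d (-1000) (le_hgt hcd h8) v hv
  exact ⟨g, h1, h2, mem_domList hcd h8 h3 h4⟩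

theorem roots_orth {R : List (DP δ)} (hR : ∀ α ∈ R, IsRoot α ∧ 0 < hgt α) (u : DP δ) :
    ∀ α ∈ orth R u, IsRoot α ∧ 0 < hgt α := fun α hα => hR α (List.mem_filter.mp hα).1

theorem form_eq_zero_of_mem_orth {R : List (DP δ)} {u α : DP δ} (hα : α ∈ orth R u) :
    form u α = 0 := of_decide_eq_true (List.mem_filter.mp hα).2

end Groth.Agent.SevDP
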